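import Mathlib

/-!
# S4404: shared definitions (helper1)

`A` is a finite commutative group of exponent 2 (written multiplicatively), `X : MulAut A`.
`cm X = [A, X] = {X a * a⁻¹}` (a subgroup since `A` is commutative) and `fx X = C_A(X)`.
-/

set_option autoImplicit false

namespace Cfsg.Agent.Lib.H1.FG19

variable {A : Type*} [CommGroup A]

/-- the commutator homomorphism `a ↦ X a * a⁻¹` -/
def cmHom (X : MulAut A) : A →* A where
  toFun a := X a * a⁻¹
  map_one' := by simp
  map_mul' a b := by
    rw [map_mul, mul_inv, mul_mul_mul_comm]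

@[simp] theorem cmHom_apply (X : MulAut A) (a : A) : cmHom X a = X a * a⁻¹ := rfl

/-- `[A, X]` -/
def cm (X : MulAut A) : Subgroup A := (cmHom X).range

/-- `C_A(X)` -/
def fx (X : MulAut A) : Subgroup A := (cmHom X).ker

theorem mem_cm {X : MulAut A} {a : A} : a ∈ cm X ↔ ∃ m : A, X m * m⁻¹ = a := by
  rw [cm, MonoidHom.mem_range]
  rfl

theorem mem_fx {X : MulAut A} {a : A} : a ∈ fx X ↔ X a = a := by
  rw [fx, MonoidHom.mem_ker, cmHom_apply, mul_inv_eq_one]

end Cfsg.Agent.Lib.H1.FG19
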