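import Cfsg.Agent.Lib.H1.FG19.Defs
import Cfsg.Prelude.Def_Transfer
import Cfsg.Prelude.Def_CaseTheorems
import Cfsg.Agent.Lib.H10.FG19EA
import Cfsg.Agent.Lib.H10.FG19RK
import Cfsg.Agent.Lib.H11.FG19PAIR
import Cfsg.Agent.Lib.H15.FG19F8
import Cfsg.Agent.Lib.H19.FG19BR
import Cfsg.Agent.Lib.H20.FG19CASEB7b
import Cfsg.Agent.Lib.H20.FG19FRAT
import Cfsg.Agent.Lib.H24.FG19CV
import Cfsg.Agent.Lib.H24.FG19SC1
import Cfsg.Agent.Lib.H24.FG19SC2
import Cfsg.Agent.Lib.H3.FG19ARITH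
import Cfsg.Agent.Lib.H3.FG19LIFT
import Cfsg.Agent.Lib.H7.FG19BAS1
import Cfsg.Agent.Lib.H9.FG19CASEA

set_option autoImplicit false

/-! # S4404: top-level assembly lemmas (helper1) -/

namespace Cfsg.Agent.Lib.H1.FG19

open Cfsg
open scoped IsMulCommutative

variable {S : Type*} [Group S]

theorem isEA_map_conj {r : ℕ} {F : Subgroup S} (hF : IsElementaryAbelian r F) (s : S) :
    IsElementaryAbelian r (F.map (MulAut.conj s).toMonoidHom) := by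
  obtain ⟨h1, h2⟩ := hF
  refine ⟨Subgroup.map_isMulCommutative F _, ?_⟩
  rintro _ ⟨f, hf, rfl⟩
  rw [← map_pow, h2 f hf, map_one]

theorem card_map_conj (F : Subgroup S) (s : S) :
    Nat.card (F.map (MulAut.conj s).toMonoidHom) = Nat.card F :=
  Subgroup.card_map_of_injective (MulAut.conj s).injective

theorem smul_sylow_eq_map {p : ℕ} [Fact p.Prime] (g : S) (P : Sylow p S) :
    ((g • P : Sylow p S) : Subgroup S) = (P : Subgroup S).map (MulAut.conj g).toMonoidHom := by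
  rw [Sylow.coe_subgroup_smul]
  rfl

/-- a `p`-subgroup is conjugate into a given Sylow `p`-subgroup -/
theorem exists_conj_le_sylow [Finite S] {p : ℕ} [Fact p.Prime] (P : Sylow p S) (E : Subgroup S)
    (hE : IsPGroup p E) : ∃ g : S, E.map (MulAut.conj g).toMonoidHom ≤ P := by
  obtain ⟨P', hP'⟩ := hE.exists_le_sylow
  obtain ⟨g, hg⟩ := MulAction.exists_smul_eq S P' P
  refine ⟨g, ?_⟩
  have h1 : ((g • P' : Sylow p S) : Subgroup S) = P := by rw [hg]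
  rw [← h1, smul_sylow_eq_map]
  exact Subgroup.map_mono hP'


/-- Case A: `S` contains an elementary abelian subgroup of order 27. -/
theorem topA [Finite S] (M : Subgroup S) [M.Normal] (hM : IsElementaryAbelian 2 M) (x : S)
    (hx : ∃ k : ℕ, x ^ 3 ^ k = 1) (hx3 : x ^ 3 ∈ Subgroup.centralizer (M : Set S))
    (hV : Nat.card ↥⁅Subgroup.zpowers x, M⁆ = 4) (A₃ : Subgroup S) (hA : IsElementaryAbelian 3 A₃)
    (hAc : Nat.card A₃ = 27) :
    ∃ F : Subgroup S, IsElementaryAbelian 3 F ∧ Nat.card F = 3 ^ 3 ∧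
      ¬ IsCyclic ↥(F ⊓ Subgroup.centralizer ((⁅Subgroup.zpowers x, M⁆ : Subgroup S) : Set S)) := by
  have : Fact (Nat.Prime 3) := ⟨Nat.prime_three⟩
  have hQ3 : IsPGroup 3 (Subgroup.zpowers x) := by
    obtain ⟨k, hk⟩ := hx
    rintro ⟨g, hg⟩
    obtain ⟨n, rfl⟩ := Subgroup.mem_zpowers_iff.mp hg
    refine ⟨k, Subtype.ext ?_⟩
    rw [Subgroup.coe_pow, Subgroup.coe_one, ← zpow_natCast, ← zpow_mul, mul_comm, zpow_mul,
      zpow_natCast, hk, one_zpow]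
  obtain ⟨R, hR⟩ := hQ3.exists_le_sylow
  have hA3 : IsPGroup 3 A₃ := IsPGroup.of_card (n := 3) (by rw [hAc]; norm_num)
  obtain ⟨g, hg⟩ := exists_conj_le_sylow R A₃ hA3
  obtain ⟨F, hFR, hFn, hFe, hFc⟩ := Cfsg.Agent.Lib.H10.FG19.exists_normal_ea (p := 3) (by norm_num)
    (R : Subgroup S) R.isPGroup' _ hg (isEA_map_conj hA g) (by rw [card_map_conj, hAc]; norm_num)
  have hxR : x ∈ (R : Subgroup S) := hR (Subgroup.mem_zpowers x)
  have hxF : ∀ f ∈ F, x * f * x⁻¹ ∈ F := fun f hf => hFn x hxR f hf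
  have hxF' : ∀ f ∈ F, x⁻¹ * f * x ∈ F := by
    intro f hf
    have := hFn x⁻¹ (inv_mem hxR) f hf
    rwa [inv_inv] at this
  have hnorm : ∀ f ∈ F, ∀ w ∈ ⁅Subgroup.zpowers x, M⁆, f * w * f⁻¹ ∈ ⁅Subgroup.zpowers x, M⁆ := by
    intro f hf w hw
    have h1 := Cfsg.Agent.Lib.H9.FG19.caseA M hM x hx3 hV F hFe hxF hxF' f hf
    rw [← h1]
    exact ⟨w, hw, rfl⟩
  have hsq := Cfsg.Agent.Lib.H24.FG19.sq_le_card_inf_centralizer Nat.prime_three F
    ⁅Subgroup.zpowers x, M⁆ hFc hnorm (by rw [hV]; decide)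
  exact ⟨F, hFe, hFc, Cfsg.Agent.Lib.H24.FG19.not_isCyclic_of_sq_le Nat.prime_three F _ hFe hsq⟩


section caseB

variable [Finite S] (M : Subgroup S) [M.Normal]

/-- `ρ = MulAut.conjNormal` kills exactly `C_S(M)`; multiplicativity helpers. -/
theorem rho_pow_three (x : S) (hx3 : x ^ 3 ∈ Subgroup.centralizer (M : Set S)) :
    (MulAut.conjNormal x : MulAut ↥M) ^ 3 = 1 := by
  rw [← map_pow]
  exact (Cfsg.Agent.Lib.H19.FG19.conjNormal_eq_one_iff M _).mpr hx3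

theorem card_cm_rho [IsMulCommutative ↥M] (x : S) :
    Nat.card (cm (MulAut.conjNormal x : MulAut ↥M)) = Nat.card ↥⁅Subgroup.zpowers x, M⁆ := by
  rw [Cfsg.Agent.Lib.H19.FG19.comm_zpowers_eq M x]
  exact (Subgroup.card_map_of_injective M.subtype_injective).symm

/-- Case B2 core: an `F_8`-element `B ∈ ρ(H)` normalised but not centralised by `X = ρ x`. -/
theorem key7 [IsMulCommutative ↥M] (h2 : ∀ m ∈ M, m * m = 1) (x : S)
    (hx3 : x ^ 3 ∈ Subgroup.centralizer (M : Set S)) (hV : Nat.card ↥⁅Subgroup.zpowers x, M⁆ = 4)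
    (H : Subgroup S) (E : Subgroup S) (hEH : E ≤ H) (hE : IsElementaryAbelian 7 E)
    (hEc : Nat.card E = 7 ^ 3) (B : MulAut ↥M)
    (hBH : B ∈ H.map (MulAut.conjNormal : S →* MulAut ↥M)) (hB7 : B ^ 7 = 1)
    (hcB : Nat.card (cm B) = 8)
    (hXB : (MulAut.conjNormal x : MulAut ↥M) * B * (MulAut.conjNormal x : MulAut ↥M)⁻¹ ∈
      Subgroup.zpowers B)
    (hne : (MulAut.conjNormal x : MulAut ↥M) * B * (MulAut.conjNormal x : MulAut ↥M)⁻¹ ≠ B) :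
    ∃ F : Subgroup S, IsElementaryAbelian 7 F ∧ Nat.card F = 7 ^ 3 ∧
      ¬ IsCyclic ↥(F ⊓ Subgroup.centralizer ((⁅Subgroup.zpowers x, M⁆ : Subgroup S) : Set S)) := by
  have h2A : ∀ a : ↥M, a * a = 1 := fun a => Subtype.ext (h2 a.1 a.2)
  have hle : cm (MulAut.conjNormal x : MulAut ↥M) ≤ cm B :=
    Cfsg.Agent.Lib.H15.FG19.cm_le_cm_of_normalizes h2A _ B (rho_pow_three M x hx3) hB7 hXB hne
      (by rw [card_cm_rho, hV])
  obtain ⟨b, hbH, hbB, hb⟩ := Cfsg.Agent.Lib.H3.FG19.exists_seven_lift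
    (MulAut.conjNormal : S →* MulAut ↥M) H B hBH hB7
  have hVle : ⁅Subgroup.zpowers x, M⁆ ≤ (cm (MulAut.conjNormal b : MulAut ↥M)).map M.subtype := by
    rw [Cfsg.Agent.Lib.H19.FG19.comm_zpowers_eq M x, hbB]
    exact Subgroup.map_mono hle
  obtain ⟨F, hFe, hFc, hF⟩ := Cfsg.Agent.Lib.H20.FG19.caseB7 M h2 H b hbH hb (by rw [hbB]; exact hB7)
    (by rw [hbB]; exact hcB) ⁅Subgroup.zpowers x, M⁆ hVle E hEH hE hEc
  exact ⟨F, hFe, hFc,
    Cfsg.Agent.Lib.H24.FG19.not_isCyclic_of_sq_le (by norm_num) F _ hFe hF⟩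


/-- Case B1: all `H`-conjugates of `x` commute with `x` modulo `C_S(M)`. -/
theorem topB1 [IsMulCommutative ↥M] {p a b : ℕ} (hp : p.Prime) (hp5 : 5 ≤ p) (x : S)
    (hx3 : x ^ 3 ∈ Subgroup.centralizer (M : Set S)) (hV : Nat.card ↥⁅Subgroup.zpowers x, M⁆ = 4)
    (hB : ∀ A : Subgroup S, IsElementaryAbelian 3 A → Nat.card A ≠ 27)
    (H : Subgroup S) (hH : Nat.card H = 3 ^ a * p ^ b) (hxH : x ∈ H)
    (E : Subgroup S) (hEH : E ≤ H) (hE : IsElementaryAbelian p E) (hEc : Nat.card E = p ^ 3)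
    (hall : ∀ h ∈ H, (MulAut.conjNormal x : MulAut ↥M) * (MulAut.conjNormal (h * x * h⁻¹) : MulAut ↥M) =
      (MulAut.conjNormal (h * x * h⁻¹) : MulAut ↥M) * (MulAut.conjNormal x : MulAut ↥M)) :
    ∃ F : Subgroup S, IsElementaryAbelian p F ∧ Nat.card F = p ^ 3 ∧
      ¬ IsCyclic ↥(F ⊓ Subgroup.centralizer ((⁅Subgroup.zpowers x, M⁆ : Subgroup S) : Set S)) := by
  have : Fact p.Prime := ⟨hp⟩
  have hp3 : p ≠ 3 := by omega
  set ρ : S →* MulAut ↥M := MulAut.conjNormal with hρ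
  let ρH : ↥H →* MulAut ↥M := ρ.comp H.subtype
  have hker : ∀ y : ↥H, y ∈ ρH.ker ↔ (y : S) ∈ Subgroup.centralizer (M : Set S) := by
    intro y
    rw [MonoidHom.mem_ker]
    exact Cfsg.Agent.Lib.H19.FG19.conjNormal_eq_one_iff M (y : S)
  obtain ⟨P, hP⟩ := Cfsg.Agent.Lib.H20.FG19.exists_sylow_comm_mod (H := ↥H) ρH.ker hp3 hH ⟨x, hxH⟩
    (by
      rw [hker]
      exact hx3)
    (by
      intro h
      rw [MonoidHom.mem_ker]
      have h1 := hall h.1 h.2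
      change ρ (x * (h.1 * x * h.1⁻¹) * x⁻¹ * (h.1 * x * h.1⁻¹)⁻¹) = 1
      rw [map_mul, map_mul, map_mul, map_inv, map_inv, h1]
      group)
    (by
      intro T hT y hy hyT t ht
      have h1 := Cfsg.Agent.Lib.H10.FG19.commute_of_no_ea27 hB hp hp5 (T.map H.subtype)
        (hT.map H.subtype) (y : S)
        (by
          obtain ⟨k, hk⟩ := hy
          exact ⟨k, by rw [← Subgroup.coe_pow, hk, Subgroup.coe_one]⟩)
        (by
          rintro _ ⟨t', ht', rfl⟩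
          exact ⟨y * t' * y⁻¹, hyT t' ht', rfl⟩)
        (t : S) ⟨t, ht, rfl⟩
      exact Subtype.ext h1)
  -- the Sylow `p`-subgroup `P` of `H` centralises `V`
  have hPV : ∀ y ∈ P, (y : S) ∈
      Subgroup.centralizer ((⁅Subgroup.zpowers x, M⁆ : Subgroup S) : Set S) := by
    intro y hy
    have h1 := (hker _).mp (hP y hy)
    obtain ⟨k, hk⟩ := P.isPGroup' ⟨y, hy⟩
    refine Cfsg.Agent.Lib.H24.FG19.mem_centralizer_of_comm_mod M x (y : S) hp hp5 ⟨k, ?_⟩ h1 hV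
    have := congrArg (fun z : ↥(P : Subgroup ↥H) => ((z : ↥H) : S)) hk
    simpa using this
  -- a conjugate of `E` lies in `P`
  have hEp : IsPGroup p (E.subgroupOf H) := by
    have hEp' : IsPGroup p E := IsPGroup.of_card (n := 3) hEc
    exact hEp'.comap_of_injective H.subtype H.subtype_injective
  obtain ⟨g, hg⟩ := exists_conj_le_sylow P (E.subgroupOf H) hEp
  refine ⟨E.map (MulAut.conj (g : S)).toMonoidHom, isEA_map_conj hE _, by rw [card_map_conj, hEc], ?_⟩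
  have hle : E.map (MulAut.conj (g : S)).toMonoidHom ≤
      Subgroup.centralizer ((⁅Subgroup.zpowers x, M⁆ : Subgroup S) : Set S) := by
    rintro _ ⟨e, he, rfl⟩
    have h1 : (MulAut.conj g).toMonoidHom (⟨e, hEH he⟩ : ↥H) ∈ (P : Subgroup ↥H) :=
      hg ⟨⟨e, hEH he⟩, Subgroup.mem_subgroupOf.mpr he, rfl⟩
    have h2 := hPV _ h1
    simpa using h2
  rw [inf_eq_left.mpr hle]
  have hsq : p ^ 2 ≤ Nat.card ↥(E.map (MulAut.conj (g : S)).toMonoidHom ⊓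
      E.map (MulAut.conj (g : S)).toMonoidHom) := by
    rw [inf_idem, card_map_conj, hEc]
    exact Nat.pow_le_pow_right hp.pos (by norm_num)
  have := Cfsg.Agent.Lib.H24.FG19.not_isCyclic_of_sq_le hp _ _ (isEA_map_conj hE (g : S)) hsq
  rwa [inf_idem] at this


/-- Case B2: some `H`-conjugate of `x` does not commute with `x` modulo `C_S(M)`. -/
theorem topB2 [IsMulCommutative ↥M] (h2 : ∀ m ∈ M, m * m = 1) {p a b : ℕ} (hp : p.Prime)
    (hp5 : 5 ≤ p) (x : S) (hx3 : x ^ 3 ∈ Subgroup.centralizer (M : Set S))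
    (hV : Nat.card ↥⁅Subgroup.zpowers x, M⁆ = 4)
    (H : Subgroup S) (hH : Nat.card H = 3 ^ a * p ^ b) (hxH : x ∈ H)
    (E : Subgroup S) (hEH : E ≤ H) (hE : IsElementaryAbelian p E) (hEc : Nat.card E = p ^ 3)
    (h : S) (hh : h ∈ H)
    (hne : (MulAut.conjNormal x : MulAut ↥M) * (MulAut.conjNormal (h * x * h⁻¹) : MulAut ↥M) ≠
      (MulAut.conjNormal (h * x * h⁻¹) : MulAut ↥M) * (MulAut.conjNormal x : MulAut ↥M)) :
    ∃ F : Subgroup S, IsElementaryAbelian p F ∧ Nat.card F = p ^ 3 ∧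
      ¬ IsCyclic ↥(F ⊓ Subgroup.centralizer ((⁅Subgroup.zpowers x, M⁆ : Subgroup S) : Set S)) := by
  have hp3 : p ≠ 3 := by omega
  have h2A : ∀ a : ↥M, a * a = 1 := fun a => Subtype.ext (h2 a.1 a.2)
  set ρ : S →* MulAut ↥M := MulAut.conjNormal with hρ
  set X : MulAut ↥M := ρ x with hX
  set Y : MulAut ↥M := ρ (h * x * h⁻¹) with hY
  have hYX : Y = ρ h * X * (ρ h)⁻¹ := by rw [hY, map_mul, map_mul, map_inv]
  have hX3 : X ^ 3 = 1 := rho_pow_three M x hx3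
  have hY3 : Y ^ 3 = 1 := by
    rw [hYX, conj_pow, hX3, mul_one, mul_inv_cancel]
  have hcX : Nat.card (cm X) = 4 := by rw [hX, hρ, card_cm_rho, hV]
  have hcY : Nat.card (cm Y) = 4 := by
    rw [hYX, ← Cfsg.Agent.Lib.H7.FG19.cm_conj X (ρ h),
      Subgroup.card_map_of_injective (MulEquiv.injective _), hcX]
  have hyH : h * x * h⁻¹ ∈ H := H.mul_mem (H.mul_mem hh hxH) (H.inv_mem hh)
  have hcl : Subgroup.closure {X, Y} = (Subgroup.closure {x, h * x * h⁻¹}).map ρ := by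
    rw [MonoidHom.map_closure, Set.image_pair]
  have hclH : Subgroup.closure {x, h * x * h⁻¹} ≤ H := by
    rw [Subgroup.closure_le]
    rintro z (rfl | rfl)
    · exact hxH
    · exact hyH
  have hdvd : Nat.card (Subgroup.closure {X, Y}) ∣ 3 ^ a * p ^ b := by
    rw [hcl, ← hH]
    exact (Subgroup.card_map_dvd _ ρ).trans (Subgroup.card_dvd_of_le hclH)
  obtain ⟨a', b', hab⟩ := Cfsg.Agent.Lib.H3.FG19.exists_eq_of_dvd hp hp3 hdvd
  rcases Cfsg.Agent.Lib.H11.FG19.pair h2A hp hp5 X Y hX3 hY3 hcX hcY hab with hc | ⟨hp7, B, hBJ, hB7, hB1, hcB, halt⟩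
  · exact absurd hc hne
  · subst hp7
    have hBH : B ∈ H.map ρ := by
      rw [hcl] at hBJ
      exact Subgroup.map_mono hclH hBJ
    rcases halt with ⟨hn1, hn2⟩ | ⟨hn1, hn2⟩
    · exact key7 M h2 x hx3 hV H E hEH hE hEc B hBH hB7 hcB hn1 hn2
    · -- conjugate `B` back by `ρ h`
      have hB'H : (ρ h)⁻¹ * B * ρ h ∈ H.map ρ := by
        have h1 : ρ h ∈ H.map ρ := ⟨h, hh, rfl⟩
        exact (H.map ρ).mul_mem ((H.map ρ).mul_mem ((H.map ρ).inv_mem h1) hBH) h1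
      have hB'7 : ((ρ h)⁻¹ * B * ρ h) ^ 7 = 1 := by
        have : (ρ h)⁻¹ * B * ρ h = (ρ h)⁻¹ * B * ((ρ h)⁻¹)⁻¹ := by rw [inv_inv]
        rw [this, conj_pow, hB7, mul_one, mul_inv_cancel]
      have hcB' : Nat.card (cm ((ρ h)⁻¹ * B * ρ h)) = 8 := by
        have : (ρ h)⁻¹ * B * ρ h = (ρ h)⁻¹ * B * ((ρ h)⁻¹)⁻¹ := by rw [inv_inv]
        rw [this, ← Cfsg.Agent.Lib.H7.FG19.cm_conj B (ρ h)⁻¹,
          Subgroup.card_map_of_injective (MulEquiv.injective _), hcB]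
      have hconj : X * ((ρ h)⁻¹ * B * ρ h) * X⁻¹ = (ρ h)⁻¹ * (Y * B * Y⁻¹) * ρ h := by
        rw [hYX]
        group
      have hn1' : X * ((ρ h)⁻¹ * B * ρ h) * X⁻¹ ∈ Subgroup.zpowers ((ρ h)⁻¹ * B * ρ h) := by
        rw [hconj]
        obtain ⟨k, hk⟩ := Subgroup.mem_zpowers_iff.mp hn1
        rw [← hk]
        refine Subgroup.mem_zpowers_iff.mpr ⟨k, ?_⟩
        have : (ρ h)⁻¹ * B * ρ h = (ρ h)⁻¹ * B * ((ρ h)⁻¹)⁻¹ := by rw [inv_inv]
        rw [this, conj_zpow, inv_inv]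
      have hn2' : X * ((ρ h)⁻¹ * B * ρ h) * X⁻¹ ≠ (ρ h)⁻¹ * B * ρ h := by
        rw [hconj]
        intro hEq
        apply hn2
        have h3 : ρ h * ((ρ h)⁻¹ * (Y * B * Y⁻¹) * ρ h) * (ρ h)⁻¹ =
            ρ h * ((ρ h)⁻¹ * B * ρ h) * (ρ h)⁻¹ := by rw [hEq]
        have e1 : ρ h * ((ρ h)⁻¹ * (Y * B * Y⁻¹) * ρ h) * (ρ h)⁻¹ = Y * B * Y⁻¹ := by group
        have e2 : ρ h * ((ρ h)⁻¹ * B * ρ h) * (ρ h)⁻¹ = B := by group
        rw [e1, e2] at h3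
        exact h3
      exact key7 M h2 x hx3 hV H E hEH hE hEc _ hB'H hB'7 hcB' hn1' hn2'

end caseB

end Cfsg.Agent.Lib.H1.FG19
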